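import Mathlib
import Groth.Agent.EtLoc7.Basic

/-! Unramified / étale neighbourhoods of a point in terms of the map on stalks. -/

set_option autoImplicit false
universe u

namespace Groth.Agent.StalkLoc7

open AlgebraicGeometry CategoryTheory

variable {X Y : Scheme.{u}}

/-- The algebra conditions: `m_R S = m_S` and finite separable residue extension. -/
theorem formallyUnramified_iff {R S : Type u} [CommRing R] [CommRing S] [IsLocalRing R] [IsLocalRing S]
    [Algebra R S] [IsLocalHom (algebraMap R S)] [Algebra.EssFiniteType R S] :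
    Algebra.FormallyUnramified R S ↔
      ((IsLocalRing.maximalIdeal R).map (algebraMap R S) = IsLocalRing.maximalIdeal S ∧
        Module.Finite (IsLocalRing.ResidueField R) (IsLocalRing.ResidueField S) ∧
        Algebra.IsSeparable (IsLocalRing.ResidueField R) (IsLocalRing.ResidueField S)) := by
  constructor
  · intro h
    exact ⟨Algebra.FormallyUnramified.map_maximalIdeal, inferInstance, inferInstance⟩
  · rintro ⟨h1, -, h3⟩
    exact Algebra.FormallyUnramified.iff_map_maximalIdeal_eq.mpr ⟨h3, h1⟩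

theorem stalkMap_formallyUnramified_iff (f : X ⟶ Y) [LocallyOfFiniteType f] (x : X) :
    (f.stalkMap x).hom.FormallyUnramified ↔
      ((IsLocalRing.maximalIdeal (Y.presheaf.stalk (f.base x))).map (f.stalkMap x).hom =
          IsLocalRing.maximalIdeal (X.presheaf.stalk x) ∧
        letI := (f.residueFieldMap x).hom.toAlgebra
        Module.Finite (Y.residueField (f.base x)) (X.residueField x) ∧
          Algebra.IsSeparable (Y.residueField (f.base x)) (X.residueField x)) := by
  letI := (f.stalkMap x).hom.toAlgebra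
  haveI : IsLocalHom (algebraMap (Y.presheaf.stalk (f x)) (X.presheaf.stalk x)) :=
    inferInstanceAs <| IsLocalHom (f.stalkMap x).hom
  haveI : Algebra.EssFiniteType (Y.presheaf.stalk (f x)) (X.presheaf.stalk x) := by
    rw [← RingHom.essFiniteType_algebraMap, RingHom.algebraMap_toAlgebra]
    exact LocallyOfFiniteType.stalkMap f x
  have e : (f.residueFieldMap x).hom.toAlgebra = (inferInstance :
      Algebra (IsLocalRing.ResidueField (Y.presheaf.stalk (f x))) (IsLocalRing.ResidueField (X.presheaf.stalk x))) := by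
    refine Algebra.algebra_ext _ _ fun a ↦ ?_
    obtain ⟨a, rfl⟩ := IsLocalRing.residue_surjective a
    rfl
  show Algebra.FormallyUnramified (Y.presheaf.stalk (f x)) (X.presheaf.stalk x) ↔ _
  rw [formallyUnramified_iff]
  refine and_congr Iff.rfl ?_
  show _ ↔ (letI := (f.residueFieldMap x).hom.toAlgebra; _)
  rw [e]
  rfl

theorem stalkMap_openImmersion_comp (f : X ⟶ Y) (U : X.Opens) (x : U.toScheme) :
    (f.stalkMap (U.ι x)).hom.FormallyUnramified ↔ ((U.ι ≫ f).stalkMap x).hom.FormallyUnramified := by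
  refine (RingHom.FormallyUnramified.respectsIso.cancel_right_isIso _ (U.ι.stalkMap x)).symm.trans ?_
  rw [← CommRingCat.hom_comp, ← Scheme.Hom.stalkMap_comp]
  rfl

theorem stalkMap_flat_openImmersion_comp (f : X ⟶ Y) (U : X.Opens) (x : U.toScheme) :
    (f.stalkMap (U.ι x)).hom.Flat ↔ ((U.ι ≫ f).stalkMap x).hom.Flat := by
  refine (RingHom.Flat.respectsIso.cancel_right_isIso _ (U.ι.stalkMap x)).symm.trans ?_
  rw [← CommRingCat.hom_comp, ← Scheme.Hom.stalkMap_comp]
  rfl

theorem mem_basicOpen {V : X.Opens} (hV : IsAffineOpen V) {x : X} (hxV : x ∈ V) {r : Γ(X, V)}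
    (hr : r ∉ (hV.primeIdealOf ⟨x, hxV⟩).asIdeal) : x ∈ X.basicOpen r := by
  have h : hV.primeIdealOf ⟨x, hxV⟩ ∈ hV.fromSpec ⁻¹ᵁ X.basicOpen r := by
    rw [hV.fromSpec_preimage_basicOpen]
    exact hr
  have h2 : hV.fromSpec (hV.primeIdealOf ⟨x, hxV⟩) ∈ X.basicOpen r := h
  rwa [hV.fromSpec_primeIdealOf] at h2

theorem appLE_eq {U : Y.Opens} {V : X.Opens} (f : X ⟶ Y) (hVU : V ≤ f ⁻¹ᵁ U) (r : Γ(X, V))
    [IsLocalization.Away r Γ(X, X.basicOpen r)] (a : Γ(Y, U)) :
    (f.appLE U (X.basicOpen r) ((X.basicOpen_le r).trans hVU)).hom a =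
    (IsLocalization.algEquiv (Submonoid.powers r) (Localization.Away r) Γ(X, X.basicOpen r))
      (algebraMap Γ(X, V) (Localization (Submonoid.powers r)) ((f.appLE U V hVU).hom a)) := by
  refine Eq.trans ?_ (AlgEquiv.commutes _ _).symm
  rw [← f.appLE_map hVU (homOfLE (X.basicOpen_le r)).op]
  rfl

theorem exists_unramified (f : X ⟶ Y) [LocallyOfFiniteType f] (x : X)
    (H : (f.stalkMap x).hom.FormallyUnramified) :
    ∃ U : X.Opens, x ∈ U ∧ FormallyUnramified (U.ι ≫ f) := by
  obtain ⟨U, hU, hxU, -⟩ := exists_isAffineOpen_mem_and_subset (x := f x) (U := ⊤) trivial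
  obtain ⟨V, hV, hxV, hVU⟩ := exists_isAffineOpen_mem_and_subset (x := x) (U := f ⁻¹ᵁ U) hxU
  have hFT := f.finiteType_appLE hU hV hVU
  algebraize [(f.appLE U V hVU).hom]
  let p := (hU.primeIdealOf ⟨f x, hVU hxV⟩).asIdeal
  let q := (hV.primeIdealOf ⟨x, hxV⟩).asIdeal
  have : q.LiesOver p :=
    ⟨congr($(IsAffineOpen.comap_primeIdealOf_appLE U hU V hV hVU hxV).1).symm⟩
  let := Localization.AtPrime.algebraOfLiesOver p q
  have h1 : Algebra.FormallyUnramified (Localization.AtPrime p) (Localization.AtPrime q) := by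
    rw [← RingHom.formallyUnramified_algebraMap]
    exact (RingHom.FormallyUnramified.respectsIso.arrow_mk_iso_iff
      (IsAffineOpen.arrowStalkMapIso f U hU V hV hVU hxV)).mp H
  haveI : Algebra.IsUnramifiedAt Γ(Y, U) q :=
    Algebra.FormallyUnramified.comp _ (Localization.AtPrime p) _
  obtain ⟨r, hr, hu⟩ := Algebra.exists_formallyUnramified_of_isUnramifiedAt (R := Γ(Y, U)) q
  refine ⟨X.basicOpen r, ?_, ?_⟩
  · exact mem_basicOpen hV hxV hr
  · have hle : X.basicOpen r ≤ f ⁻¹ᵁ U := (X.basicOpen_le r).trans hVU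
    have : IsAffine _ := hU
    have : IsAffine _ := hV.basicOpen r
    rw [← Scheme.Hom.resLE_comp_ι f hle]
    haveI : FormallyUnramified (f.resLE U (X.basicOpen r) hle) := by
      rw [HasRingHomProperty.iff_of_isAffine (P := @FormallyUnramified)]
      refine (RingHom.FormallyUnramified.respectsIso.arrow_mk_iso_iff
        (arrowResLEAppIso f U (X.basicOpen r) hle)).mpr ?_
      have := hV.isLocalization_basicOpen r
      rw [← RingHom.formallyUnramified_algebraMap] at hu
      convert RingHom.FormallyUnramified.respectsIso.1 _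
        (IsLocalization.algEquiv (.powers r) _ Γ(X, X.basicOpen r)).toRingEquiv hu
      ext a
      exact appLE_eq f hVU r a
    exact MorphismProperty.comp_mem @FormallyUnramified _ _ inferInstance inferInstance

theorem exists_etale (f : X ⟶ Y) [LocallyOfFiniteType f] [IsLocallyNoetherian Y] (x : X)
    (H : (f.stalkMap x).hom.FormallyUnramified) (Hflat : (f.stalkMap x).hom.Flat) :
    ∃ U : X.Opens, x ∈ U ∧ Etale (U.ι ≫ f) := by
  obtain ⟨U, hU, hxU, -⟩ := exists_isAffineOpen_mem_and_subset (x := f x) (U := ⊤) trivial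
  obtain ⟨V, hV, hxV, hVU⟩ := exists_isAffineOpen_mem_and_subset (x := x) (U := f ⁻¹ᵁ U) hxU
  have hFT := f.finiteType_appLE hU hV hVU
  algebraize [(f.appLE U V hVU).hom]
  haveI : IsNoetherianRing Γ(Y, U) := IsLocallyNoetherian.component_noetherian ⟨U, hU⟩
  haveI : Algebra.FinitePresentation Γ(Y, U) Γ(X, V) :=
    Algebra.FinitePresentation.of_finiteType.mp inferInstance
  let p := (hU.primeIdealOf ⟨f x, hVU hxV⟩).asIdeal
  let q := (hV.primeIdealOf ⟨x, hxV⟩).asIdeal
  have : q.LiesOver p :=
    ⟨congr($(IsAffineOpen.comap_primeIdealOf_appLE U hU V hV hVU hxV).1).symm⟩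
  let := Localization.AtPrime.algebraOfLiesOver p q
  haveI : Algebra.FormallyUnramified (Localization.AtPrime p) (Localization.AtPrime q) := by
    rw [← RingHom.formallyUnramified_algebraMap]
    exact (RingHom.FormallyUnramified.respectsIso.arrow_mk_iso_iff
      (IsAffineOpen.arrowStalkMapIso f U hU V hV hVU hxV)).mp H
  haveI : Module.Flat (Localization.AtPrime p) (Localization.AtPrime q) := by
    rw [← RingHom.flat_algebraMap_iff]
    exact (RingHom.Flat.respectsIso.arrow_mk_iso_iff
      (IsAffineOpen.arrowStalkMapIso f U hU V hV hVU hxV)).mp Hflat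
  haveI : Algebra.EssFiniteType (Localization.AtPrime p) (Localization.AtPrime q) := .of_comp Γ(Y, U) _ _
  haveI : IsNoetherianRing (Localization.AtPrime p) := IsLocalization.isNoetherianRing p.primeCompl _ inferInstance
  haveI : Algebra.FormallyEtale (Localization.AtPrime p) (Localization.AtPrime q) :=
    EtLoc7.formallyEtale_of_formallyUnramified _ _
  haveI : Algebra.IsEtaleAt Γ(Y, U) q := Algebra.FormallyEtale.comp _ (Localization.AtPrime p) _
  obtain ⟨r, hr, hu⟩ := Algebra.exists_etale_of_isEtaleAt (R := Γ(Y, U)) q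
  refine ⟨X.basicOpen r, ?_, ?_⟩
  · exact mem_basicOpen hV hxV hr
  · have hle : X.basicOpen r ≤ f ⁻¹ᵁ U := (X.basicOpen_le r).trans hVU
    have : IsAffine _ := hU
    have : IsAffine _ := hV.basicOpen r
    rw [← Scheme.Hom.resLE_comp_ι f hle]
    haveI : Etale (f.resLE U (X.basicOpen r) hle) := by
      rw [HasRingHomProperty.iff_of_isAffine (P := @Etale)]
      refine (RingHom.Etale.respectsIso.arrow_mk_iso_iff
        (arrowResLEAppIso f U (X.basicOpen r) hle)).mpr ?_
      have := hV.isLocalization_basicOpen r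
      rw [← RingHom.etale_algebraMap] at hu
      convert RingHom.Etale.respectsIso.1 _
        (IsLocalization.algEquiv (.powers r) _ Γ(X, X.basicOpen r)).toRingEquiv hu
      ext a
      exact appLE_eq f hVU r a
    infer_instance

end Groth.Agent.StalkLoc7
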